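import Groth.Agent.UnibrBir.Scheme
import Groth.Agent.RedNorm.Basic
import Groth.Agent.ConsPropLib.Examples
import Groth.Agent.RadPtLib.Basic
import Groth.Agent.GUOpen.Local
import Groth.Agent.S9812

/-!
The geometrically unibranch locus of a scheme with finite normalization is constructible.
-/

set_option autoImplicit false
set_option linter.style.haveILetI false

universe u

open CategoryTheory AlgebraicGeometry Topology

noncomputable section

namespace Groth.Agent.GULocus

open Groth.Agent.UnibrBir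

theorem mem_minimalPrimes_map_iff {R R' : Type u} [CommRing R] [CommRing R'] (e : R ≃+* R') (P : Ideal R') :
    P.comap e.toRingHom ∈ minimalPrimes R ↔ P ∈ minimalPrimes R' := by
  have h1 : ∀ J : Ideal R, (J.comap e.symm.toRingHom).comap e.toRingHom = J := fun J => by
    rw [Ideal.comap_comap]; ext x; simp
  have h2 : ∀ J : Ideal R', (J.comap e.toRingHom).comap e.symm.toRingHom = J := fun J => by
    rw [Ideal.comap_comap]; ext x; simp
  constructor
  · intro h
    haveI := h.1.1
    have hP : P.IsPrime := h2 P ▸ Ideal.comap_isPrime _ _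
    refine ⟨⟨hP, bot_le⟩, fun J hJ hle => ?_⟩
    haveI := hJ.1
    rw [← h2 P, ← h2 J]
    exact Ideal.comap_mono (h.2 ⟨Ideal.comap_isPrime _ _, bot_le⟩ (Ideal.comap_mono hle))
  · intro h
    haveI := h.1.1
    refine ⟨⟨Ideal.comap_isPrime _ _, bot_le⟩, fun J hJ hle => ?_⟩
    haveI := hJ.1
    rw [← h1 J]
    refine Ideal.comap_mono (h.2 ⟨Ideal.comap_isPrime _ _, bot_le⟩ ?_)
    rw [← h2 P]
    exact Ideal.comap_mono hle

/-- Birationality on minimal primes is invariant under isomorphisms. -/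
theorem isBirMin_congr {R S R' S' : Type u} [CommRing R] [CommRing S] [CommRing R'] [CommRing S']
    [Algebra R S] [Algebra R' S'] (eR : R ≃+* R') (eS : S ≃+* S')
    (hcomm : ∀ r, algebraMap R' S' (eR r) = eS (algebraMap R S r)) (h : IsBirMin R S) : IsBirMin R' S' := by
  have key : ∀ Q : Ideal S', (Q.comap eS.toRingHom).comap (algebraMap R S) =
      (Q.comap (algebraMap R' S')).comap eR.toRingHom := fun Q => by
    rw [Ideal.comap_comap, Ideal.comap_comap]
    congr 1
    exact RingHom.ext fun r => (hcomm r).symm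
  refine ⟨fun Q hQ => ?_, fun P hP => ?_, fun P hP Q Q' hQ hQ' e e' => ?_, fun Q hQ s => ?_⟩
  · rw [← mem_minimalPrimes_map_iff eR, ← key]
    exact h.mapsTo _ ((mem_minimalPrimes_map_iff eS Q).2 hQ)
  · obtain ⟨Q, hQ, hQP⟩ := h.exists_over _ ((mem_minimalPrimes_map_iff eR P).2 hP)
    refine ⟨Q.comap eS.symm.toRingHom, Ideal.comap_isPrime _ _, ?_⟩
    apply Ideal.comap_injective_of_surjective eR.toRingHom eR.surjective
    rw [← key, ← hQP, Ideal.comap_comap _ eS.toRingHom]
    ext x
    simp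
  · apply Ideal.comap_injective_of_surjective eS.toRingHom eS.surjective
    haveI := hQ
    haveI := hQ'
    exact h.unique_over _ ((mem_minimalPrimes_map_iff eR P).2 hP) _ _ (Ideal.comap_isPrime _ _)
      (Ideal.comap_isPrime _ _) (by rw [key, e]) (by rw [key, e'])
  · obtain ⟨r, d, hd, hrd⟩ := h.residue _ ((mem_minimalPrimes_map_iff eS Q).2 hQ) (eS.symm s)
    refine ⟨eR r, eR d, fun h' => hd ?_, ?_⟩
    · rw [hcomm] at h'; exact h'
    · rw [hcomm, hcomm]
      simpa using hrd

section Ring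

variable (R : Type u) [CommRing R]

/-- The map to the normalization of the reduction. -/
def toNormRed : R →+* CAlg2.normRed R :=
  (algebraMap (CAlg2.red R) (CAlg2.normRed R)).comp (Ideal.Quotient.mk (nilradical R))

theorem isIntegral_toNormRed : (toNormRed R).IsIntegral :=
  RingHom.IsIntegral.trans _ _ (RingHom.isIntegral_of_surjective _ Ideal.Quotient.mk_surjective)
    fun x => Algebra.IsIntegral.isIntegral x

theorem finite_toNormRed (h : Module.Finite (CAlg2.red R) (CAlg2.normRed R)) : (toNormRed R).Finite :=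
  (RingHom.finite_algebraMap.2 h).comp (RingHom.Finite.of_surjective _ Ideal.Quotient.mk_surjective)

variable [IsNoetherianRing R]

instance finite_minimalPrimes_red : Finite ↥(minimalPrimes (CAlg2.red R)) :=
  (minimalPrimes.finite_of_isNoetherianRing (CAlg2.red R)).to_subtype

instance isReduced_red : _root_.IsReduced (CAlg2.red R) :=
  (Ideal.isRadical_iff_quotient_reduced _).1 (Ideal.radical_isRadical _)

/-- The projection of the normalization to a component. -/
def proj (i : ↥(minimalPrimes (CAlg2.red R))) :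
    CAlg2.normRed R →+* integralClosure (CAlg2.red R ⧸ i.1) (FractionRing (CAlg2.red R ⧸ i.1)) :=
  (Pi.evalRingHom _ i).comp (RedNorm.normEquiv (CAlg2.red R)).toAlgHom.toRingHom

theorem proj_algebraMap (i : ↥(minimalPrimes (CAlg2.red R))) (a : CAlg2.red R) :
    proj R i (algebraMap _ _ a) = algebraMap (CAlg2.red R ⧸ i.1) _ (Ideal.Quotient.mk i.1 a) :=
  congrFun ((RedNorm.normEquiv (CAlg2.red R)).commutes a) i

theorem comap_ker_proj (i : ↥(minimalPrimes (CAlg2.red R))) :
    (RingHom.ker (proj R i)).comap (algebraMap (CAlg2.red R) (CAlg2.normRed R)) = i.1 := by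
  ext a
  rw [Ideal.mem_comap, RingHom.mem_ker, proj_algebraMap]
  refine Iff.trans ?_ Ideal.Quotient.eq_zero_iff_mem
  exact map_eq_zero_iff _ (FaithfulSMul.algebraMap_injective _ _)

theorem exists_ker_proj_le (Q : Ideal (CAlg2.normRed R)) [Q.IsPrime] : ∃ i, RingHom.ker (proj R i) ≤ Q := by
  classical
  by_contra hcon
  push_neg at hcon
  have : ∀ i, ∃ x, proj R i x = 0 ∧ x ∉ Q := fun i => by
    obtain ⟨x, hx, hxQ⟩ := SetLike.not_le_iff_exists.1 (hcon i)
    exact ⟨x, hx, hxQ⟩
  choose x hx hxQ using this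
  haveI := Fintype.ofFinite ↥(minimalPrimes (CAlg2.red R))
  have h0 : ∏ i, x i = 0 := by
    apply (RedNorm.normEquiv (CAlg2.red R)).injective
    rw [map_zero]
    funext j
    show proj R j (∏ i, x i) = 0
    rw [map_prod]
    exact Finset.prod_eq_zero (Finset.mem_univ j) (hx j)
  obtain ⟨i, -, hi⟩ := (Ideal.IsPrime.prod_mem_iff (s := Finset.univ) (x := x) (p := Q)).1 (h0 ▸ Q.zero_mem)
  exact hxQ i hi

theorem isBirMin_red : IsBirMin (CAlg2.red R) (CAlg2.normRed R) := by
  have hker : ∀ i, (RingHom.ker (proj R i)).IsPrime := fun i => RingHom.ker_isPrime _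
  have huniq : ∀ (Q : Ideal (CAlg2.normRed R)), Q.IsPrime →
      Q.comap (algebraMap (CAlg2.red R) (CAlg2.normRed R)) ∈ minimalPrimes (CAlg2.red R) →
      ∃ i : ↥(minimalPrimes (CAlg2.red R)), Q = RingHom.ker (proj R i) ∧
        i.1 = Q.comap (algebraMap (CAlg2.red R) (CAlg2.normRed R)) := by
    intro Q hQ hmin
    obtain ⟨i, hi⟩ := exists_ker_proj_le R Q
    have hle := Ideal.comap_mono (f := algebraMap (CAlg2.red R) (CAlg2.normRed R)) hi
    rw [comap_ker_proj] at hle
    have heq : i.1 = Q.comap (algebraMap (CAlg2.red R) (CAlg2.normRed R)) :=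
      le_antisymm hle (hmin.2 i.2.1 hle)
    refine ⟨i, ?_, heq⟩
    by_contra hne
    haveI := hker i
    have hlt := Ideal.IsIntegral.comap_lt_comap (R := CAlg2.red R) (lt_of_le_of_ne hi (Ne.symm hne))
    rw [comap_ker_proj, ← heq] at hlt
    exact lt_irrefl _ hlt
  have hminS : ∀ Q ∈ minimalPrimes (CAlg2.normRed R), ∃ i, Q = RingHom.ker (proj R i) := fun Q hQ => by
    haveI := hQ.1.1
    obtain ⟨i, hi⟩ := exists_ker_proj_le R Q
    exact ⟨i, le_antisymm (hQ.2 ⟨hker i, bot_le⟩ hi) hi⟩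
  refine ⟨fun Q hQ => ?_, fun P hP => ?_, fun P hP Q Q' hQ hQ' e e' => ?_, fun Q hQ s => ?_⟩
  · obtain ⟨i, rfl⟩ := hminS Q hQ
    rw [comap_ker_proj]
    exact i.2
  · exact ⟨_, hker ⟨P, hP⟩, comap_ker_proj R ⟨P, hP⟩⟩
  · obtain ⟨i, rfl, hi⟩ := huniq Q hQ (e.symm ▸ hP)
    obtain ⟨j, rfl, hj⟩ := huniq Q' hQ' (e'.symm ▸ hP)
    rw [Subtype.ext (show i.1 = j.1 by rw [hi, hj, e, e'])]
  · obtain ⟨i, rfl⟩ := hminS Q hQ
    obtain ⟨⟨a, b⟩, hab⟩ := IsLocalization.surj (nonZeroDivisors (CAlg2.red R ⧸ i.1))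
      ((proj R i s : FractionRing (CAlg2.red R ⧸ i.1)))
    obtain ⟨r, rfl⟩ := Ideal.Quotient.mk_surjective a
    obtain ⟨d, hd⟩ := Ideal.Quotient.mk_surjective (b : CAlg2.red R ⧸ i.1)
    refine ⟨r, d, fun h => nonZeroDivisors.ne_zero b.2 ?_, ?_⟩
    · rw [← hd]
      exact Ideal.Quotient.eq_zero_iff_mem.2 ((comap_ker_proj R i).le h)
    · rw [RingHom.mem_ker, map_sub, map_mul, proj_algebraMap, proj_algebraMap, sub_eq_zero]
      apply Subtype.ext
      rw [hd]
      exact (mul_comm _ _).trans hab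

theorem isBirMin : letI := (toNormRed R).toAlgebra; IsBirMin R (CAlg2.normRed R) := by
  letI := (toNormRed R).toAlgebra
  have h := isBirMin_red R
  have key : ∀ Q : Ideal (CAlg2.normRed R), Q.comap (algebraMap R (CAlg2.normRed R)) =
      (Q.comap (algebraMap (CAlg2.red R) (CAlg2.normRed R))).comap (Ideal.Quotient.mk (nilradical R)) :=
    fun Q => (Ideal.comap_comap _ _).symm
  have hmin : ∀ P : Ideal (CAlg2.red R), P.comap (Ideal.Quotient.mk (nilradical R)) ∈ minimalPrimes R ↔
      P ∈ minimalPrimes (CAlg2.red R) := by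
    intro P
    constructor
    · intro hP
      haveI := hP.1.1
      have hPp : P.IsPrime := by
        rw [← Ideal.map_comap_of_surjective _ Ideal.Quotient.mk_surjective P]
        exact Ideal.map_isPrime_of_surjective Ideal.Quotient.mk_surjective
          (by rw [Ideal.mk_ker]; exact nilradical_le_prime _)
      refine ⟨⟨hPp, bot_le⟩, fun J hJ hle => ?_⟩
      haveI := hJ.1
      rw [← Ideal.map_comap_of_surjective _ Ideal.Quotient.mk_surjective P,
        ← Ideal.map_comap_of_surjective _ Ideal.Quotient.mk_surjective J]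
      exact Ideal.map_mono (hP.2 ⟨Ideal.comap_isPrime _ _, bot_le⟩ (Ideal.comap_mono hle))
    · intro hP
      haveI := hP.1.1
      refine ⟨⟨Ideal.comap_isPrime _ _, bot_le⟩, fun J hJ hle => ?_⟩
      haveI := hJ.1
      have hJn : nilradical R ≤ J := nilradical_le_prime J
      have : P ≤ J.map (Ideal.Quotient.mk (nilradical R)) := by
        refine hP.2 ⟨Ideal.map_isPrime_of_surjective Ideal.Quotient.mk_surjective (by rw [Ideal.mk_ker]; exact hJn),
          bot_le⟩ ?_
        rw [← Ideal.map_comap_of_surjective _ Ideal.Quotient.mk_surjective P]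
        exact Ideal.map_mono hle
      refine (Ideal.comap_mono this).trans ?_
      rw [Ideal.comap_map_of_surjective _ Ideal.Quotient.mk_surjective, sup_le_iff]
      exact ⟨le_rfl, (Ideal.mk_ker (I := nilradical R)).trans_le hJn⟩
  refine ⟨fun Q hQ => ?_, fun P hP => ?_, fun P hP Q Q' hQ hQ' e e' => ?_, fun Q hQ s => ?_⟩
  · rw [key, hmin]
    exact h.mapsTo Q hQ
  · haveI := hP.1.1
    have hP' : (P.map (Ideal.Quotient.mk (nilradical R))).comap (Ideal.Quotient.mk (nilradical R)) = P := by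
      rw [Ideal.comap_map_of_surjective _ Ideal.Quotient.mk_surjective]
      exact sup_eq_left.2 ((Ideal.mk_ker (I := nilradical R)).trans_le (nilradical_le_prime P))
    obtain ⟨Q, hQ, hQP⟩ := h.exists_over _ ((hmin _).1 (hP'.symm ▸ hP))
    exact ⟨Q, hQ, by rw [key, hQP, hP']⟩
  · rw [key] at e e'
    refine h.unique_over _ ((hmin _).1 (e.symm ▸ hP)) Q Q' hQ hQ' rfl ?_
    exact Ideal.comap_injective_of_surjective _ Ideal.Quotient.mk_surjective (e'.trans e.symm)
  · obtain ⟨r, d, hd, hrd⟩ := h.residue Q hQ s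
    obtain ⟨r, rfl⟩ := Ideal.Quotient.mk_surjective r
    obtain ⟨d, rfl⟩ := Ideal.Quotient.mk_surjective d
    exact ⟨r, d, hd, hrd⟩

end Ring

/-- The criterion at a point of the target, for an affine target. -/
theorem isGeomUnibranch_iff_isRadicialAt {X Y : Scheme.{u}} (f : X ⟶ Y) [IsIntegralHom f] {U : Y.Opens}
    (hU : IsAffineOpen U) (hV : IsAffineOpen (f ⁻¹ᵁ U))
    (hbir : letI := (f.app U).hom.toAlgebra; IsBirMin Γ(Y, U) Γ(X, f ⁻¹ᵁ U))
    (hX : ∀ x : X, CAlg2.IsGeomUnibranch (X.presheaf.stalk x)) (y : Y) (hy : y ∈ U) :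
    CAlg2.IsGeomUnibranch (Y.presheaf.stalk y) ↔ RadPt.IsRadicialAt f y := by
  letI := (f.app U).hom.toAlgebra
  have : Algebra.IsIntegral Γ(Y, U) Γ(X, f ⁻¹ᵁ U) := ⟨f.isIntegral_app U hU⟩
  have aux : ∀ (x : X) (hx : f x ∈ U), CAlg2.IsGeomUnibranch (Y.presheaf.stalk (f x)) ↔
      (∀ x', f x' = f x → x' = x) ∧ (f.residueFieldMap x).hom.IsPurelyInseparable := by
    intro x hx
    let := Y.presheaf.algebra_section_stalk ⟨f x, hx⟩
    let := X.presheaf.algebra_section_stalk (⟨x, hx⟩ : ↥(f ⁻¹ᵁ U))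
    have hlocY : IsLocalization.AtPrime (Y.presheaf.stalk (f x)) (hU.primeIdealOf ⟨f x, hx⟩).asIdeal :=
      hU.isLocalization_stalk ⟨f x, hx⟩
    have hlocX : IsLocalization.AtPrime (X.presheaf.stalk x) (hV.primeIdealOf ⟨x, hx⟩).asIdeal :=
      hV.isLocalization_stalk ⟨x, hx⟩
    let : Algebra Γ(Y, U) (X.presheaf.stalk x) :=
      ((algebraMap Γ(X, f ⁻¹ᵁ U) (X.presheaf.stalk x)).comp (f.app U).hom).toAlgebra
    have : IsScalarTower Γ(Y, U) Γ(X, f ⁻¹ᵁ U) (X.presheaf.stalk x) := .of_algebraMap_eq fun r => rfl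
    let : Algebra (Y.presheaf.stalk (f x)) (X.presheaf.stalk x) := (f.stalkMap x).hom.toAlgebra
    have : IsScalarTower Γ(Y, U) (Y.presheaf.stalk (f x)) (X.presheaf.stalk x) :=
      .of_algebraMap_eq fun r => (Scheme.Hom.germ_stalkMap_apply f U x hx r).symm
    have : IsLocalHom (algebraMap (Y.presheaf.stalk (f x)) (X.presheaf.stalk x)) :=
      inferInstanceAs (IsLocalHom (f.stalkMap x).hom)
    rw [isGeomUnibranch_iff_birMin (L := Y.presheaf.stalk (f x)) (M := X.presheaf.stalk x)
      hbir (hU.primeIdealOf ⟨f x, hx⟩).asIdeal (hV.primeIdealOf ⟨x, hx⟩).asIdeal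
      (comap_primeIdealOf_app f hU hV x hx)]
    refine and_congr ⟨fun h x' hx' => ?_, fun h Q hQ e => ?_⟩ (and_iff_right (hX x))
    · have hxU : f x' ∈ U := hx' ▸ hx
      have e := h _ (hV.primeIdealOf ⟨x', hxU⟩).isPrime (by
        show Ideal.comap (f.app U).hom _ = _
        rw [comap_primeIdealOf_app f hU hV x' hxU]
        congr 2
        exact Subtype.ext hx')
      have := congrArg hV.fromSpec
        (PrimeSpectrum.ext e : hV.primeIdealOf ⟨x', hxU⟩ = hV.primeIdealOf ⟨x, hx⟩)
      rwa [hV.fromSpec_primeIdealOf, hV.fromSpec_primeIdealOf] at this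
    · obtain ⟨x', hx', rfl⟩ := primeIdealOf_eq_of_comap f hV Q hQ
      change Ideal.comap (f.app U).hom _ = _ at e
      rw [comap_primeIdealOf_app f hU hV x' hx'] at e
      have := congrArg hU.fromSpec
        (PrimeSpectrum.ext e : hU.primeIdealOf ⟨f x', hx'⟩ = hU.primeIdealOf ⟨f x, hx⟩)
      rw [hU.fromSpec_primeIdealOf, hU.fromSpec_primeIdealOf] at this
      obtain rfl := h x' this
      rfl
  constructor
  · intro hG
    have key : ∀ x, f x = y → (∀ x', f x' = f x → x' = x) ∧
        (f.residueFieldMap x).hom.IsPurelyInseparable := by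
      rintro x rfl
      exact (aux x hy).1 hG
    exact ⟨fun x x' hx hx' => ((key x hx).1 x' (hx'.trans hx.symm)).symm, fun x hx => (key x hx).2⟩
  · rintro ⟨h1, h2⟩
    let p := (hU.primeIdealOf ⟨y, hy⟩).asIdeal
    obtain ⟨P, hP, hPp⟩ := Ideal.exists_minimalPrimes_le (I := (⊥ : Ideal Γ(Y, U))) (J := p) bot_le
    obtain ⟨Q, hQ, hQP⟩ := hbir.exists_over P hP
    obtain ⟨q, -, hq, hqp⟩ := Ideal.exists_ideal_over_prime_of_isIntegral p Q (hQP ▸ hPp)
    obtain ⟨x, hx, rfl⟩ := primeIdealOf_eq_of_comap f hV q hq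
    change Ideal.comap (f.app U).hom _ = _ at hqp
    rw [comap_primeIdealOf_app f hU hV x hx] at hqp
    have hxy := congrArg hU.fromSpec
      (PrimeSpectrum.ext hqp : hU.primeIdealOf ⟨f x, hx⟩ = hU.primeIdealOf ⟨y, hy⟩)
    rw [hU.fromSpec_primeIdealOf, hU.fromSpec_primeIdealOf] at hxy
    change f x = y at hxy
    subst hxy
    exact (aux x hy).2 ⟨fun x' hx' => h1 x' x hx' rfl, h2 x rfl⟩

/-- Local rings of the spectrum of the normalization are geometrically unibranch. -/
theorem isGeomUnibranch_stalk_normRed (R : Type u) [CommRing R] [IsNoetherianRing R]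
    (x : Spec (CommRingCat.of (CAlg2.normRed R))) :
    CAlg2.IsGeomUnibranch ((Spec (CommRingCat.of (CAlg2.normRed R))).presheaf.stalk x) := by
  obtain ⟨h1, h2⟩ := RedNorm.isDomain_isIntegrallyClosed_localization (CAlg2.red R) x.asIdeal
  haveI := h1
  haveI := h2
  exact GUOpen.isGeomUnibranch_congr (Spec.stalkIso _ x).commRingCatIsoToRingEquiv.symm
    (Groth.Agent.S9812.result (Localization.AtPrime x.asIdeal))

/-- The geometrically unibranch locus of a Noetherian affine scheme with finite normalization. -/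
theorem isConstructible_spec (R : CommRingCat.{u}) [IsNoetherianRing R]
    (hfin : Module.Finite (CAlg2.red R) (CAlg2.normRed R)) :
    IsConstructible {z : Spec R | CAlg2.IsGeomUnibranch ((Spec R).presheaf.stalk z)} := by
  let φ : R ⟶ CommRingCat.of (CAlg2.normRed R) := CommRingCat.ofHom (toNormRed R)
  haveI : IsFinite (Spec.map φ) := (IsFinite.SpecMap_iff φ).2 (finite_toNormRed R hfin)
  have hbir : letI := ((Spec.map φ).app ⊤).hom.toAlgebra
      IsBirMin Γ(Spec R, ⊤) Γ(Spec (CommRingCat.of (CAlg2.normRed R)), Spec.map φ ⁻¹ᵁ ⊤) := by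
    letI := (toNormRed R).toAlgebra
    letI := ((Spec.map φ).app ⊤).hom.toAlgebra
    exact isBirMin_congr (Scheme.ΓSpecIso R).symm.commRingCatIsoToRingEquiv
      (Scheme.ΓSpecIso (CommRingCat.of (CAlg2.normRed R))).symm.commRingCatIsoToRingEquiv
      (fun r => (ConcreteCategory.congr_hom (Scheme.ΓSpecIso_inv_naturality φ) r).symm) (isBirMin R)
  have hloc : {z : Spec R | CAlg2.IsGeomUnibranch ((Spec R).presheaf.stalk z)} =
      ConsProp.locus (fun (Y T : Scheme.{u}) (g : Y ⟶ T) => UniversallyInjective g) (Spec.map φ) := by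
    ext z
    exact (isGeomUnibranch_iff_isRadicialAt (Spec.map φ) (isAffineOpen_top _) (isAffineOpen_top _) hbir
      (isGeomUnibranch_stalk_normRed R) z trivial).trans (RadPtLib.isRadicialAt_iff_fiber _ z)
  rw [hloc]
  exact ConsPropLib.isConstructible_locus_universallyInjective _

/-- The geometrically unibranch locus is locally constructible. -/
theorem isLocallyConstructible (X : Scheme.{u}) [IsLocallyNoetherian X]
    (hfin : ∀ U : X.affineOpens, Module.Finite (CAlg2.red Γ(X, U.1)) (CAlg2.normRed Γ(X, U.1))) :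
    IsLocallyConstructible {x : X | CAlg2.IsGeomUnibranch (X.presheaf.stalk x)} := by
  intro x
  obtain ⟨U, hU, hxU, -⟩ := exists_isAffineOpen_mem_and_subset (x := x) (U := ⊤) trivial
  haveI : IsNoetherianRing Γ(X, U) := IsLocallyNoetherian.component_noetherian ⟨U, hU⟩
  refine ⟨U, U.2.mem_nhds hxU, U.2, ?_⟩
  have h := hU.isoSpec.hom.isConstructible_preimage (isConstructible_spec Γ(X, U) (hfin ⟨U, hU⟩))
  refine (Eq.mp ?_ h)
  refine congrArg IsConstructible (Set.ext fun w => ?_)
  show CAlg2.IsGeomUnibranch ((Spec Γ(X, U)).presheaf.stalk (hU.isoSpec.hom w)) ↔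
    CAlg2.IsGeomUnibranch (X.presheaf.stalk (U.ι w))
  let e₁ := (asIso (hU.isoSpec.hom.stalkMap w)).commRingCatIsoToRingEquiv
  let e₂ := (U.stalkIso w).commRingCatIsoToRingEquiv
  exact ⟨fun h => GUOpen.isGeomUnibranch_congr e₂ (GUOpen.isGeomUnibranch_congr e₁ h),
    fun h => GUOpen.isGeomUnibranch_congr e₁.symm (GUOpen.isGeomUnibranch_congr e₂.symm h)⟩

end Groth.Agent.GULocus

end
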